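import Groth.Agent.IsoNatLib.AutIso.Nat
import Groth.Agent.IsoNatLib.Twist.Converse
import Groth.Agent.Stk19b.Gerbe.PointBG

/-!
# A classifying stack of a commutative group is determined by its classes
-/

set_option autoImplicit false
set_option linter.style.haveILetI false
set_option backward.isDefEq.respectTransparency false
set_option backward.isDefEq.respectTransparency.types false

universe u

open CategoryTheory CategoryTheory.Limits AlgebraicGeometry MonoidalCategory CartesianMonoidalCategory MonObj GrpObj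
open Opposite FibCat Groth.Agent.Stk19 Groth.Agent.Desc19 Groth.Agent.Stk19b Groth.Agent.Stk19b.QuotTriv
open Groth.Agent.Stk19b.Gerbe Groth.Agent.IsoNatLib.AutIso Groth.Agent.IsoNatLib.Twist

namespace Groth.Agent.IsoNatLib.BGDet

variable {S : Scheme.{u}} (G : Over S) [GrpObj G]

local notation "𝔅" => AlgSt.BG Scheme.fppfPrecoverage G

/-- The trivial torsor over a scheme. -/
noncomputable abbrev trivO {Z : Over S} (z : Z ⟶ 𝟙_ (Over S)) : (𝔅).p.Fiber Z :=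
  ⟨triv Scheme.fppfPrecoverage (AlgSt.trivAction G) z, rfl⟩

variable {G}

/-- A morphism of trivial torsors by its base and its element. -/
theorem exists_arr {Z Z' : Over S} (z : Z ⟶ 𝟙_ (Over S)) (z' : Z' ⟶ 𝟙_ (Over S)) (f : Z ⟶ Z') (g : Z ⟶ G) :
    ∃ h : (trivO G z).1 ⟶ (trivO G z').1, h.base = f ∧ h.top = lift (fst G Z * (snd G Z ≫ g)) (snd G Z ≫ f) :=
  exists_hom_of_smul z z' f g (toUnit_unique _ _)

/-- The morphism. -/
noncomputable def arr' {Z Z' : Over S} (z : Z ⟶ 𝟙_ (Over S)) (z' : Z' ⟶ 𝟙_ (Over S)) (f : Z ⟶ Z') (g : Z ⟶ G) :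
    (trivO G z).1 ⟶ (trivO G z').1 :=
  (exists_arr z z' f g).choose

theorem arr'_base {Z Z' : Over S} (z : Z ⟶ 𝟙_ (Over S)) (z' : Z' ⟶ 𝟙_ (Over S)) (f : Z ⟶ Z') (g : Z ⟶ G) :
    (arr' z z' f g).base = f :=
  (exists_arr z z' f g).choose_spec.1

theorem arr'_top {Z Z' : Over S} (z : Z ⟶ 𝟙_ (Over S)) (z' : Z' ⟶ 𝟙_ (Over S)) (f : Z ⟶ Z') (g : Z ⟶ G) :
    (arr' z z' f g).top = lift (fst G Z * (snd G Z ≫ g)) (snd G Z ≫ f) :=
  (exists_arr z z' f g).choose_spec.2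

theorem arr'_comp {Z Z' Z'' : Over S} (z : Z ⟶ 𝟙_ (Over S)) (z' : Z' ⟶ 𝟙_ (Over S)) (z'' : Z'' ⟶ 𝟙_ (Over S))
    (f : Z ⟶ Z') (g : Z ⟶ G) (f' : Z' ⟶ Z'') (g' : Z' ⟶ G) :
    arr' z z' f g ≫ arr' z' z'' f' g' = arr' z z'' (f ≫ f') (g * (f ≫ g')) := by
  refine AlgSt.QuotObj.hom_ext ?_ ?_
  · rw [AlgSt.QuotObj.comp_base, arr'_base, arr'_base, arr'_base]
  · rw [AlgSt.QuotObj.comp_top, arr'_top, arr'_top, arr'_top]
    show lift _ _ ≫ lift (fst G Z' * (snd G Z' ≫ g')) (snd G Z' ≫ f') = _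
    rw [comp_lift, MonObj.comp_mul, lift_fst, lift_snd_assoc, lift_snd_assoc, MonObj.comp_mul]
    simp [_root_.mul_assoc]

theorem arr'_congr {Z Z' : Over S} (z : Z ⟶ 𝟙_ (Over S)) (z' : Z' ⟶ 𝟙_ (Over S)) {f f' : Z ⟶ Z'} {g g' : Z ⟶ G}
    (hf : f = f') (hg : g = g') : arr' z z' f g = arr' z z' f' g' := by
  subst hf hg
  rfl

theorem arr'_injective {Z : Over S} (z : Z ⟶ 𝟙_ (Over S)) {g g' : Z ⟶ G}
    (e : arr' z z (𝟙 Z) g = arr' z z (𝟙 Z) g') : g = g' := by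
  have h := congrArg (fun m => unitSec Z ≫ m.top ≫ fst G Z) e
  simp only [arr'_top, lift_fst, MonObj.comp_mul, lift_snd_assoc, Category.id_comp, _root_.one_mul] at h
  simpa using h

theorem exists_eq_arr' {Z : Over S} (z : Z ⟶ 𝟙_ (Over S)) (s : (trivO G z).1 ⟶ (trivO G z).1)
    (hs : (𝔅).p.map s = 𝟙 _) : ∃ g : Z ⟶ G, s = arr' z z (𝟙 Z) g := by
  obtain ⟨g, -, hg⟩ := exists_smul_of_hom (K := Scheme.fppfPrecoverage) s (𝟙 Z) hs
  exact ⟨g, AlgSt.QuotObj.hom_ext (hs.trans (arr'_base z z _ g).symm) (hg.trans (arr'_top z z _ g).symm)⟩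

theorem isAutAbelian_BG [IsCommMonObj G] {T : Over S} (ξ : (𝔅).p.Fiber T) : IsoNat.IsAutAbelian ξ := by
  intro T' x _ a b
  have hv : ∀ c : Aut x, c.hom.1.base = 𝟙 x.1.base := fun c => by
    haveI : (𝔅).p.IsHomLift (𝟙 T') c.hom.1 := c.hom.2
    refine (IsHomLift.fac' (𝔅).p (𝟙 T') c.hom.1).trans ?_
    simp
    rfl
  have key : ∀ c : Aut x, ∃ g : x.1.P ⟶ G, smulPt x.1.act g (𝟙 _) = c.hom.1.top := fun c =>
    (existsUnique_smul x.1 (𝟙 _) c.hom.1.top (by rw [c.hom.1.cart.w, hv c, Category.comp_id, Category.id_comp])).exists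
  obtain ⟨g, hg⟩ := key b
  obtain ⟨g', hg'⟩ := key a
  refine Aut.ext (Functor.Fiber.hom_ext (AlgSt.QuotObj.hom_ext ?_ ?_))
  · show b.hom.1.base ≫ a.hom.1.base = a.hom.1.base ≫ b.hom.1.base
    rw [hv a, hv b]
  · show b.hom.1.top ≫ a.hom.1.top = a.hom.1.top ≫ b.hom.1.top
    conv_lhs => rw [← hg]
    conv_rhs => rw [← hg']
    rw [hom_top_smul, hom_top_smul, Category.id_comp, Category.id_comp, ← hg, ← hg', ← smulPt_mul, ← smulPt_mul,
      _root_.mul_comm]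

theorem exists_equiv [IsAffineHom G.hom] [IsCommMonObj G] (hB : Stk.IsStack (AlgSp.J S) (𝔅))
    (hBd : AlgSt.RepByAlgSpWith AlgSp.IsSeparatedMor (FibCat.diag (toSelf (𝔅)))) {𝒴 : AlgSt.Cat S}
    (hY : Stk.IsStack (AlgSp.J S) 𝒴)
    (hdY : AlgSt.RepByAlgSpWith AlgSp.IsSeparatedMor (FibCat.diag (toSelf 𝒴))) (φ : IsoNat.FIso (𝔅) 𝒴) :
    ∃ e : (𝔅) ⥤ᵇ 𝒴, IsEquivOver e := by
  let T₀ : Over S := Over.mk (𝟙 S)
  obtain ⟨ξ, hξ⟩ := Quotient.exists_rep (φ.toEquiv T₀ (IsoNat.cls (trivO G (Z := T₀) (𝟙 T₀))))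
  obtain ⟨x, i, hi⟩ := exists_classifying hY.1 ξ.1 ξ.2
  haveI := hi
  -- the classes of the values of the point
  let xO : ∀ {Z : Over S} (z : Z ⟶ T₀), 𝒴.p.Fiber Z := fun z => ⟨x.obj (Over.mk z), x.w_obj _⟩
  have hcls : ∀ {Z : Over S} (z : Z ⟶ T₀),
      φ.toEquiv Z (IsoNat.cls (trivO G z)) = IsoNat.cls (xO z) := by
    intro Z z
    have h1 : pb hB.1 z (IsoNat.cls (trivO G (Z := T₀) (𝟙 T₀))) = IsoNat.cls (trivO G z) :=
      pb_cls hB.1 (arr' z (𝟙 T₀) z 1) (IsHomLift.of_fac' (𝔅).p _ _ rfl rfl (by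
        show (arr' z (𝟙 T₀) z 1).base = _
        rw [arr'_base]
        simp))
    rw [← h1, pb_natural hB.1 φ hY.1, ← hξ]
    exact pb_cls hY.1 (toTop x (Over.mk z) ≫ i.hom) (IsHomLift.of_fac' 𝒴.p _ _ (xO z).2 ξ.2 (by
      rw [𝒴.p.map_comp, toTop_map, IsHomLift.fac' 𝒴.p (𝟙 T₀) i.hom]
      simp [xO]))
  -- every object is locally a value of the point
  have loc : ∀ {Z : Over S} (A : AlgSt.QuotObj Scheme.fppfPrecoverage G (AlgSt.trivAction G)) (e : A.base = Z)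
      (w : 𝒴.p.Fiber Z), φ.toEquiv Z (IsoNat.cls (⟨A, e⟩ : (𝔅).p.Fiber Z)) = IsoNat.cls w →
      ∃ R ∈ (AlgSp.J S) Z, ∀ ⦃V : Over S⦄ (f : V ⟶ Z), R f →
        ∃ (a : (overCat T₀).obj) (g : x.obj a ⟶ w.1), 𝒴.p.IsHomLift f g := by
    intro Z A e w hw
    subst e
    refine ⟨_, Quot.generate_π_mem A, fun V f hf => ?_⟩
    obtain ⟨W, p, g, ⟨⟩, hp⟩ := hf
    obtain ⟨m, hm, -⟩ := exists_hom_of_point A p f hp (toUnit V) (toUnit_unique _ _)
    let z : V ⟶ T₀ := toUnit V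
    have h1 : pb hB.1 f (IsoNat.cls (⟨A, rfl⟩ : (𝔅).p.Fiber A.base)) = IsoNat.cls (trivO G z) :=
      pb_cls hB.1 m (IsHomLift.of_fac' (𝔅).p _ _ rfl rfl (by
        show m.base = _
        rw [hm]
        simp))
    have h2 : pb hY.1 f (IsoNat.cls w) = IsoNat.cls (xO z) := by
      rw [← hw, ← pb_natural hB.1 φ hY.1, h1, hcls z]
    obtain ⟨a, ha⟩ := exists_arrow_of_pb_eq hY.1 h2
    exact ⟨Over.mk z, a, IsHomLift.of_fac' 𝒴.p _ _ (xO z).2 w.2 ha⟩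
  have hloc : ∀ y, LocIm.locIm x y := fun y => by
    obtain ⟨⟨A, e⟩, hA⟩ := Quotient.exists_rep ((φ.toEquiv _).symm (IsoNat.cls (⟨y, rfl⟩ : 𝒴.p.Fiber (𝒴.p.obj y))))
    exact loc A e ⟨y, rfl⟩ (((φ.toEquiv _).apply_eq_iff_eq_symm_apply).2 hA)
  -- the automorphisms
  let hab := fun {Z : Over S} (z : Z ⟶ T₀) => isAutAbelian_BG (trivO G z)
  let hab' := fun {Z : Over S} (z : Z ⟶ T₀) => isAutAbelian_of_fIso hB hY hdY φ (hcls z) (hab z)
  have hs : ∀ (T : (overCat T₀).obj) (g : T.left ⟶ G), ∃ s' : x.obj T ⟶ x.obj T, 𝒴.p.map s' = 𝟙 _ ∧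
      CorrO hB.1 φ hY.1 (trivO G T.hom) (xO T.hom) (arr' T.hom T.hom (𝟙 _) g) s' := fun T g =>
    exists_corrO hB hY φ (hcls T.hom) (hab T.hom) (hab' T.hom) (arr'_base _ _ _ _)
  choose σ hσm hσ using hs
  have σu : ∀ (T : (overCat T₀).obj) (g : T.left ⟶ G) (s' : x.obj T ⟶ x.obj T),
      CorrO hB.1 φ hY.1 (trivO G T.hom) (xO T.hom) (arr' T.hom T.hom (𝟙 _) g) s' → s' = σ T g :=
    fun T g s' h => CorrO.unique hB hY hdY φ (hab T.hom) (hab' T.hom) h (hσ T g)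
  have σmul : ∀ (T : (overCat T₀).obj) (g g' : T.left ⟶ G), σ T (g * g') = σ T g' ≫ σ T g := fun T g g' => by
    refine (σu T _ _ ?_).symm
    rw [show arr' T.hom T.hom (𝟙 _) (g * g') = arr' T.hom T.hom (𝟙 _) g' ≫ arr' T.hom T.hom (𝟙 _) g by
      rw [arr'_comp]
      exact arr'_congr _ _ (Category.id_comp _).symm (by rw [Category.id_comp, _root_.mul_comm])]
    exact CorrO.comp hB hY hdY φ (hcls T.hom) (hab T.hom) (hab' T.hom) (hσ T g') (hσ T g)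
  have vl : ∀ (T : (overCat T₀).obj) (g : T.left ⟶ G), 𝒴.p.IsHomLift (𝟙 (𝒴.p.obj (x.obj T))) (σ T g) :=
    fun T g => IsHomLift.of_fac' 𝒴.p _ _ rfl rfl (by simp [hσm T g])
  haveI : ∀ (T : (overCat T₀).obj) (g : T.left ⟶ G), IsIso (σ T g) := fun T g => isIso_of_map hY.1 (hσm T g)
  let Φ : ∀ T : (overCat T₀).obj, (T.left ⟶ G) → Gerb.AutO (x.obj T) := fun T g =>
    haveI := vl T g
    haveI : 𝒴.p.IsHomLift (𝟙 (𝒴.p.obj (x.obj T))) (inv (σ T g)) :=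
      IsHomLift.of_fac' 𝒴.p _ _ rfl rfl (by rw [Functor.map_inv]; simp [hσm T g])
    { hom := Functor.Fiber.homMk 𝒴.p _ (σ T g)
      inv := Functor.Fiber.homMk 𝒴.p _ (inv (σ T g))
      hom_inv_id := Functor.Fiber.hom_ext (IsIso.hom_inv_id (σ T g))
      inv_hom_id := Functor.Fiber.hom_ext (IsIso.inv_hom_id (σ T g)) }
  have Φbij : ∀ T, Function.Bijective (Φ T) := fun T => by
    refine ⟨fun g g' e => ?_, fun a => ?_⟩
    · have e' : σ T g = σ T g' := congrArg (fun t : Gerb.AutO (x.obj T) => t.hom.1) e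
      exact arr'_injective T.hom (CorrO.unique' hB hY hBd φ (hab T.hom) (hab' T.hom) (hσ T g) (e' ▸ hσ T g'))
    · haveI : 𝒴.p.IsHomLift (𝟙 (𝒴.p.obj (x.obj T))) a.hom.1 := a.hom.2
      have ha : 𝒴.p.map a.hom.1 = 𝟙 _ := by
        rw [IsHomLift.fac' 𝒴.p (𝟙 (𝒴.p.obj (x.obj T))) a.hom.1]; simp
      obtain ⟨s, hs, hc⟩ := exists_corrO' hB hY φ (hcls T.hom) (hab T.hom) (hab' T.hom) (η' := xO T.hom) ha
      obtain ⟨g, rfl⟩ := exists_eq_arr' T.hom s hs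
      exact ⟨g, Aut.ext (Functor.Fiber.hom_ext (σu T g _ hc).symm)⟩
  let Φe : ∀ T, (T.left ⟶ G) ≃* Gerb.AutO (x.obj T) := fun T =>
    MulEquiv.ofBijective (MonoidHom.mk' (Φ T) fun g g' => Aut.ext (Functor.Fiber.hom_ext (σmul T g g'))) (Φbij T)
  let evE : ∀ T : (overCat T₀).obj, (T.left ⟶ G) ≃* (Gerb.ptsGrp T₀ G).obj (op T) := fun T =>
    MulEquiv.ofBijective (MonoidHom.mk' (fun g => PointBG.ev T.hom g) (PointBG.ev_mul T.hom)) (PointBG.ev_bij T.hom)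
  let r : Gerb.AutRep x (Gerb.ptsGrp T₀ G) :=
    { iso := fun T => (evE T).symm.trans (Φe T)
      natural := fun {T' T} k a => by
        obtain ⟨g, rfl⟩ := (evE T).surjective a
        have e1 : (Gerb.ptsGrp T₀ G).map k.op (evE T g) = evE T' (k.left ≫ g) := by
          have hk : k = PointBG.arr T'.hom T.hom k.left := Over.OverMorphism.ext rfl
          conv_lhs => rw [hk]
          exact PointBG.ev_natural T'.hom T.hom k.left g
        rw [e1]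
        simp only [MulEquiv.trans_apply, MulEquiv.symm_apply_apply]
        show σ T' (k.left ≫ g) ≫ x.map k = x.map k ≫ σ T g
        obtain ⟨s₁, hs₁⟩ := exists_res hY.1 (x.map k) (hσm T g)
        have h1 : IsRes (arr' T'.hom T.hom k.left 1) (arr' T.hom T.hom (𝟙 _) g)
            (arr' T'.hom T'.hom (𝟙 _) (k.left ≫ g)) := by
          refine ⟨arr'_base _ _ _ _, ?_⟩
          rw [arr'_comp, arr'_comp]
          exact arr'_congr _ _ (by simp) (by simp)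
        have hc := corrO_pullback hB.1 φ hY.1 (η' := xO T.hom) (η₁ := trivO G T'.hom) (η₁' := xO T'.hom) (g := k.left)
          (k := arr' T'.hom T.hom k.left 1) (by show (arr' T'.hom T.hom k.left 1).base = _; rw [arr'_base]; simp)
          (l := x.map k) (based_map x k) h1 hs₁ (hσ T g)
        rw [← σu T' _ _ hc]
        exact hs₁.comm }
  obtain ⟨e, he, -⟩ := PointBG.exists_equiv_BG x hY hloc r
  exact ⟨e, he⟩

end Groth.Agent.IsoNatLib.BGDet
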